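import Cfsg.Agent.H1.S8.RuDeg
import Cfsg.Agent.H300.Ru.Theta
import Cfsg.Agent.H497.S8.SolvTwo
import Cfsg.Agent.RuLat.Main

/-!
# S4908, row Ru, SOLV (helper854)

No solvable group has the degrees of the Rudvalis group: the degrees are in a list of 400 divisors of the order (residues
modulo 29, `d ^ 2 ≤ |G|`, small degrees) and 3276, 20475 are degrees.
-/

set_option autoImplicit false
set_option maxRecDepth 100000

namespace Cfsg.Agent.H854.S8.Ru

open Cfsg Cfsg.Agent Cfsg.Agent.SporadicB Cfsg.Agent.Characters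

universe u v

/-- a superset of the degrees -/
def Adm : List ℕ := [
  1, 29, 58, 87, 116, 145, 174, 203, 232, 261, 290, 348, 377, 378, 406, 435, 464, 522, 580, 609, 696, 725, 754, 783,
  812, 870, 928, 1015, 1044, 1131, 1160, 1218, 1305, 1392, 1450, 1508, 1566, 1624, 1740, 1827, 1856, 1885, 2016,
  2030, 2088, 2160, 2175, 2262, 2320, 2436, 2610, 2625, 2639, 2784, 2900, 3016, 3045, 3132, 3248, 3276, 3393, 3480,
  3510, 3625, 3640, 3654, 3712, 3770, 3900, 3915, 4032, 4060, 4176, 4320, 4350, 4480, 4524, 4640, 4800, 4872, 5075,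
  5220, 5250, 5278, 5481, 5568, 5655, 5800, 6032, 6090, 6264, 6496, 6525, 6656, 6786, 6960, 7250, 7280, 7308, 7424,
  7540, 7800, 7830, 7917, 8120, 8192, 8352, 8700, 8960, 9048, 9135, 9280, 9425, 9600, 9744, 10150, 10179, 10440,
  10556, 10875, 10962, 11136, 11310, 11600, 12064, 12180, 12528, 12600, 12992, 13050, 13195, 13312, 13500, 13572,
  13920, 14500, 14616, 14848, 15080, 15225, 15660, 15834, 16240, 16384, 16704, 16965, 17400, 17472, 18096, 18270,
  18560, 18720, 18850, 19488, 19575, 20300, 20358, 20475, 20880, 21112, 21504, 21750, 21924, 22272, 22620, 22750,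
  23040, 23200, 23751, 24128, 24360, 25056, 25200, 25375, 25984, 26100, 26390, 27000, 27144, 27405, 27840, 28000,
  28275, 29000, 29232, 29696, 30160, 30450, 31320, 31668, 32480, 32625, 33408, 33930, 34800, 34944, 36192, 36540,
  37120, 37440, 37700, 38976, 39150, 39585, 40600, 40716, 41600, 41760, 42224, 43008, 43500, 43848, 44544, 45240,
  45500, 45675, 46080, 46400, 47125, 47502, 48256, 48720, 49140, 50112, 50750, 50895, 51200, 51968, 52200, 52780,
  54288, 54810, 55680, 56000, 56550, 58000, 58464, 59392, 60320, 60480, 60900, 62640, 63336, 64960, 65250, 65975,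
  66816, 67860, 69600, 71253, 72384, 73080, 74240, 75400, 76125, 77952, 78300, 79170, 81200, 81432, 83200, 83520,
  84448, 84825, 87000, 87696, 89088, 89856, 90480, 91350, 92800, 94250, 95004, 96512, 97440, 97875, 98280, 100224,
  101500, 101790, 102400, 103936, 104400, 105560, 108576, 109200, 109620, 110592, 111360, 113100, 116000, 116928,
  117000, 118755, 118784, 120640, 120960, 121800, 125280, 126672, 129920, 130500, 131950, 133632, 134400, 135720,
  137025, 139200, 141375, 142506, 144000, 144768, 146160, 148480, 150800, 152250, 155904, 156600, 158340, 162400,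
  162864, 167040, 168896, 169650, 174000, 175392, 178176, 179712, 180960, 182700, 185600, 186368, 188500, 190008,
  193024, 194880, 195750, 197925, 199680, 200448, 203000, 203580, 207872, 208800, 211120, 217152, 218400, 219240,
  221184, 222720, 226200, 228375, 232000, 233856, 234000, 237510, 237568, 241280, 243600, 245760, 250560, 253344,
  254475, 259840, 261000, 263900, 267264, 268800, 271440, 274050, 278400, 282750, 285012, 288000, 289536, 292320,
  296960, 301600, 304500, 307125, 311808, 313200, 316680, 324800, 325728, 329875, 334080, 337792, 339300, 348000,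
  350784, 356265, 356352, 361920, 365400, 371200, 372736, 377000, 378000, 380016]

/-- the conditions on the degrees -/
def ok (d : ℕ) : Bool :=
  Nat.ble (d * d) 145926144000 && (Nat.beq d 1 || Nat.beq (d % 29) 0 ||
    ((Nat.beq (d % 29) 1 || Nat.beq (d % 29) 28 || Nat.beq (d % 29) 14 || Nat.beq (d % 29) 15) &&
      (Nat.beq d 378 || Nat.ble 2016 d)))

theorem adm_chk : ((List.range 15).all fun a => (List.range 4).all fun b => (List.range 4).all fun c =>
    (List.range 2).all fun e => (List.range 2).all fun f => (List.range 2).all fun g =>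
      !(ok (2 ^ a * (3 ^ b * (5 ^ c * (7 ^ e * (13 ^ f * 29 ^ g)))))) ||
        Adm.any fun x => Nat.beq x (2 ^ a * (3 ^ b * (5 ^ c * (7 ^ e * (13 ^ f * 29 ^ g)))))) = true := by
  decide +kernel

theorem mem_of_ok {d : ℕ} (hN : d ∣ 145926144000) (h : ok d = true) : d ∈ Adm := by
  have e0 : 145926144000 = 2 ^ 14 * (3 ^ 3 * (5 ^ 3 * (7 ^ 1 * (13 ^ 1 * 29 ^ 1)))) := by norm_num
  rw [e0] at hN
  obtain ⟨x1, y1, hx1, hy1, rfl⟩ := (Nat.dvd_mul).1 hN
  obtain ⟨x2, y2, hx2, hy2, rfl⟩ := (Nat.dvd_mul).1 hy1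
  obtain ⟨x3, y3, hx3, hy3, rfl⟩ := (Nat.dvd_mul).1 hy2
  obtain ⟨x4, y4, hx4, hy4, rfl⟩ := (Nat.dvd_mul).1 hy3
  obtain ⟨x5, y5, hx5, hy5, rfl⟩ := (Nat.dvd_mul).1 hy4
  obtain ⟨a, ha, rfl⟩ := (Nat.dvd_prime_pow (by norm_num : Nat.Prime 2)).1 hx1
  obtain ⟨b, hb, rfl⟩ := (Nat.dvd_prime_pow (by norm_num : Nat.Prime 3)).1 hx2
  obtain ⟨c, hc, rfl⟩ := (Nat.dvd_prime_pow (by norm_num : Nat.Prime 5)).1 hx3
  obtain ⟨e, he, rfl⟩ := (Nat.dvd_prime_pow (by norm_num : Nat.Prime 7)).1 hx4
  obtain ⟨f, hf, rfl⟩ := (Nat.dvd_prime_pow (by norm_num : Nat.Prime 13)).1 hx5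
  obtain ⟨g, hg, rfl⟩ := (Nat.dvd_prime_pow (by norm_num : Nat.Prime 29)).1 hy5
  have h1 := List.all_eq_true.1 (List.all_eq_true.1 (List.all_eq_true.1 (List.all_eq_true.1 (List.all_eq_true.1
    (List.all_eq_true.1 adm_chk a (List.mem_range.2 (by omega))) b (List.mem_range.2 (by omega)))
    c (List.mem_range.2 (by omega))) e (List.mem_range.2 (by omega))) f (List.mem_range.2 (by omega)))
    g (List.mem_range.2 (by omega))
  rw [h, Bool.not_true, Bool.false_or, List.any_eq_true] at h1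
  obtain ⟨x, hx, h2⟩ := h1
  rw [Nat.beq_eq] at h2
  rwa [← h2]

theorem sq_le {G : Type*} [Group G] [Finite G] (χ : IrrCharacter G) :
    charDegree (χ : G → ℂ) * charDegree (χ : G → ℂ) ≤ Nat.card G := by
  have : Finite (IrrCharacter G) := Core.finite_irr
  have := Fintype.ofFinite (IrrCharacter G)
  have h1 := Cfsg.Agent.CharDeep.PowerDegrees.sum_sq (G := G)
  have h2 : ∑ ψ : IrrCharacter G, charDegree (ψ : G → ℂ) ^ 2 = Nat.card G := by
    have h3 : ∀ ψ : IrrCharacter G, (ψ : G → ℂ) 1 = charDegree (ψ : G → ℂ) := fun ψ =>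
      Cfsg.Agent.Blocks.Basic.irr_one_eq_charDegree ψ.2
    simp only [h3] at h1
    exact_mod_cast h1
  rw [← h2, ← pow_two]
  exact Finset.single_le_sum (f := fun ψ : IrrCharacter G => charDegree (ψ : G → ℂ) ^ 2) (fun _ _ => Nat.zero_le _)
    (Finset.mem_univ χ)

/-- the degrees -/
theorem degs {d : ℕ} (hd : d ∈ charDegrees RuOrder.H) : d ∈ Adm := by
  have hfin : Finite RuOrder.H := H1.S8.RuDeg.fin_H
  refine mem_of_ok (H1.S8.RuDeg.dvd_card hd) ?_
  have h1 : d * d ≤ 145926144000 := by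
    obtain ⟨χ, rfl⟩ := hd
    have h := sq_le χ
    rwa [RuOrder.card_H] at h
  unfold ok
  simp only [Bool.and_eq_true, Bool.or_eq_true, Nat.beq_eq, Nat.ble_eq]
  refine ⟨h1, ?_⟩
  rcases H1.S8.RuDeg.cases hd with h | h | ⟨h, h2⟩
  · exact Or.inl (Or.inl h)
  · exact Or.inl (Or.inr h)
  · exact Or.inr ⟨by tauto, h2⟩

theorem mem_3276 : 3276 ∈ charDegrees RuOrder.H := by
  have h := H300.Ru.irr_of H300.Ru.gc2 (by decide +kernel) (by decide +kernel)
  refine ⟨⟨_, h⟩, Cfsg.Agent.Blocks.Basic.charDegree_of_eq ?_⟩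
  change H300.Cls.tv H300.Ru.fam H300.Ru.v2 1 = ((3276 : ℕ) : ℂ)
  rw [H300.Cls.tv, H300.Ru.fam_one]
  norm_num [H300.Ru.v2]

theorem mem_20475 : 20475 ∈ charDegrees RuOrder.H := by
  refine ⟨⟨_, H300.Ru.irr_th1⟩, Cfsg.Agent.Blocks.Basic.charDegree_of_eq ?_⟩
  change H300.Cls.tv H300.Ru.fam H300.Ru.th1 1 = ((20475 : ℕ) : ℂ)
  rw [H300.Cls.tv, H300.Ru.fam_one]
  norm_num [H300.Ru.th1]

theorem chk : H497.S8.chk2 380016 [2, 3, 5, 7, 13, 29] Adm [[3276], [20475]] = true := by decide +kernel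

theorem primes : ∀ p ∈ [2, 3, 5, 7, 13, 29], Nat.Prime p := by
  intro p hp
  simp only [List.mem_cons, List.not_mem_nil, or_false] at hp
  rcases hp with rfl | rfl | rfl | rfl | rfl | rfl <;> norm_num

theorem charDegrees_congr {X : Type u} {Y : Type v} [Group X] [Group Y] (e : X ≃* Y) :
    charDegrees X = charDegrees Y := by
  apply Set.Subset.antisymm
  · rintro d ⟨χ, rfl⟩
    exact ⟨⟨_, Core.isIrr_comp e.symm.toMonoidHom e.symm.surjective χ.2⟩, by
      unfold charDegree
      simp⟩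
  · rintro d ⟨χ, rfl⟩
    exact ⟨⟨_, Core.isIrr_comp e.toMonoidHom e.surjective χ.2⟩, by
      unfold charDegree
      simp⟩

/-- **SOLV for `Ru`** -/
theorem solv {X : Type v} [Group X] (hX : Cfsg.Spor.IsoRu X) {D : Set ℕ} (hD : H704.S8.Deg 1 X D) :
    H704.S8.Solv.{u} D := by
  obtain ⟨e⟩ : Nonempty (X ≃* Cfsg.Spor.Ru) := hX
  have e' : X ≃* RuOrder.H := e.trans RuLat.Main.equiv
  have hfin : Finite RuOrder.H := H1.S8.RuDeg.fin_H
  have : Finite X := Finite.of_equiv _ e'.symm.toEquiv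
  rcases hD with rfl | ⟨h, -⟩
  · have h1 : ∀ d ∈ charDegrees X, d ∈ Adm := by
      intro d hd
      rw [charDegrees_congr e'] at hd
      exact degs hd
    have h2 : ∀ l ∈ [[3276], [20475]], ∃ n ∈ l, n ∈ charDegrees X := by
      intro l hl
      rw [charDegrees_congr e']
      simp only [List.mem_cons, List.not_mem_nil, or_false] at hl
      rcases hl with rfl | rfl
      · exact ⟨3276, by simp, mem_3276⟩
      · exact ⟨20475, by simp, mem_20475⟩
    have h3 := @H497.S8.solv_of_chk2.{u} (charDegrees X) 380016 [2, 3, 5, 7, 13, 29] Adm [[3276], [20475]] primes h1 h2 chk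
    exact @h3
  · norm_num at h

end Cfsg.Agent.H854.S8.Ru
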